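import Cfsg.Agent.AltDoubleCover.Lifts

/-!
# Anticommuting lifts in perfect double covers of alternating groups
-/

set_option autoImplicit false

namespace CfsgLib.AltDoubleCover

open Equiv Equiv.Perm
open scoped commutatorElement

section Perms

variable {n : ℕ}

/-- The three-cycle `(0 1 i+2)` (the identity for large `i`). -/
def cyc (n : ℕ) (i : ℕ) : Perm (Fin n) :=
  if h : i + 2 < n then swap ⟨0, by omega⟩ ⟨1, by omega⟩ * swap ⟨1, by omega⟩ ⟨i + 2, h⟩ else 1

theorem cyc_mem (i : ℕ) : cyc n i ∈ alternatingGroup (Fin n) := by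
  rw [cyc]
  split_ifs with h
  · rw [mem_alternatingGroup, map_mul, sign_swap, sign_swap]
    · rfl
    · simp [Fin.ext_iff]
    · simp [Fin.ext_iff]
  · exact one_mem _

/-- Evaluation of products of swaps of four distinct points. -/
theorem four_points {α : Type*} [DecidableEq α] {a b c d : α} (h : [a, b, c, d].Nodup) :
    (swap a b * swap b c) * (swap a b * swap b d) = swap a c * swap b d ∧
    (swap a b * swap c d) * (swap a c * swap b d) = swap a d * swap b c ∧
    (swap a c * swap b d) * (swap a b * swap c d) = swap a d * swap b c ∧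
    (swap a b * swap c d) * (swap a b * swap c d) = 1 := by
  simp only [List.nodup_cons, List.mem_cons, List.not_mem_nil, or_false, not_or, List.nodup_nil, and_true,
    not_false_iff] at h
  obtain ⟨⟨hab, hac, had⟩, ⟨hbc, hbd⟩, hcd⟩ := h
  have hab' := Ne.symm hab
  have hac' := Ne.symm hac
  have had' := Ne.symm had
  have hbc' := Ne.symm hbc
  have hbd' := Ne.symm hbd
  have hcd' := Ne.symm hcd
  refine ⟨?_, ?_, ?_, ?_⟩ <;>
  · refine Equiv.ext fun x => ?_
    rcases eq_or_ne x a with rfl | ha
    · simp [swap_apply_of_ne_of_ne, hab, hac, had, hbc, hbd, hcd, hab', hac', had', hbc', hbd', hcd']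
    rcases eq_or_ne x b with rfl | hb
    · simp [swap_apply_of_ne_of_ne, hab, hac, had, hbc, hbd, hcd, hab', hac', had', hbc', hbd', hcd']
    rcases eq_or_ne x c with rfl | hc
    · simp [swap_apply_of_ne_of_ne, hab, hac, had, hbc, hbd, hcd, hab', hac', had', hbc', hbd', hcd']
    rcases eq_or_ne x d with rfl | hd
    · simp [swap_apply_of_ne_of_ne, hab, hac, had, hbc, hbd, hcd, hab', hac', had', hbc', hbd', hcd']
    simp [swap_apply_of_ne_of_ne, ha, hb, hc, hd]

theorem cyc_cube (i : ℕ) : cyc n i ^ 3 = 1 := by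
  rw [cyc]
  split_ifs with h
  · rw [swap_comm, ← (isThreeCycle_swap_mul_swap_same (a := (⟨1, by omega⟩ : Fin n)) (b := ⟨0, by omega⟩)
      (c := ⟨i + 2, h⟩) (by simp) (by simp [Fin.ext_iff]) (by simp [Fin.ext_iff])).orderOf, pow_orderOf_eq_one]
  · simp

theorem cyc_mul (i j : ℕ) (hi : i + 2 < n) (hj : j + 2 < n) (hij : i ≠ j) :
    cyc n i * cyc n j = swap ⟨0, by omega⟩ ⟨i + 2, hi⟩ * swap ⟨1, by omega⟩ ⟨j + 2, hj⟩ := by
  rw [cyc, cyc, dif_pos hi, dif_pos hj]
  exact (four_points (by simp [Fin.ext_iff]; omega)).1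

theorem card_closure_cyc (hn : 2 ≤ n) : ∀ m, m + 2 ≤ n →
    (m + 2).factorial ≤ 2 * Nat.card (Subgroup.closure (cyc n '' Set.Iio m)) := by
  intro m
  induction m with
  | zero =>
    intro _
    have := Nat.card_pos (α := Subgroup.closure (cyc n '' Set.Iio 0))
    simp only [Nat.reduceAdd, Nat.factorial_two]
    omega
  | succ m ih =>
    intro hm
    set S := Subgroup.closure (cyc n '' Set.Iio m)
    set T := Subgroup.closure (cyc n '' Set.Iio (m + 1))
    have hST : S ≤ T := Subgroup.closure_mono (Set.image_mono (Set.Iio_subset_Iio (Nat.le_succ m)))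
    have hmem : ∀ i, i < m + 1 → cyc n i ∈ T := fun i hi => Subgroup.subset_closure ⟨i, hi, rfl⟩
    let p : Fin n := ⟨m + 2, by omega⟩
    have hfix : S ≤ MulAction.stabilizer (Perm (Fin n)) p := by
      rw [Subgroup.closure_le]
      rintro _ ⟨i, hi, rfl⟩
      have hi' : i < m := hi
      show cyc n i p = p
      rw [cyc, dif_pos (show i + 2 < n by omega)]
      ext
      simp only [Perm.mul_apply, swap_apply_def, Fin.ext_iff, p]
      split_ifs <;> simp_all <;> omega
    have h1 : Nat.card S ≤ Nat.card (MulAction.stabilizer T p) :=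
      Nat.card_le_card_of_injective (fun s => (⟨⟨s.1, hST s.2⟩, hfix s.2⟩ : MulAction.stabilizer T p))
        fun s t h => Subtype.ext (congrArg (fun z : MulAction.stabilizer T p => ((z : T) : Perm (Fin n))) h)
    have h2 : m + 3 ≤ Nat.card (MulAction.orbit T p) := by
      have hinj : Function.Injective fun j : Fin (m + 3) => (⟨j.1, by omega⟩ : Fin n) := fun a b h =>
        Fin.ext (Fin.mk.inj_iff.1 h)
      have hsub : ∀ j : Fin (m + 3), (⟨j.1, by omega⟩ : Fin n) ∈ MulAction.orbit T p := by
        intro j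
        have hp0 : (⟨0, by omega⟩ : Fin n) ∈ MulAction.orbit T p := by
          refine ⟨⟨cyc n m, hmem m (by omega)⟩, ?_⟩
          show cyc n m p = _
          rw [cyc, dif_pos (show m + 2 < n by omega)]
          ext
          simp [p]
        have hp1 : (⟨1, by omega⟩ : Fin n) ∈ MulAction.orbit T p := by
          refine ⟨⟨cyc n m * cyc n m, mul_mem (hmem m (by omega)) (hmem m (by omega))⟩, ?_⟩
          show cyc n m (cyc n m p) = _
          rw [cyc, dif_pos (show m + 2 < n by omega)]
          ext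
          simp only [Perm.mul_apply, swap_apply_def, Fin.ext_iff, p]
          grind
        rcases j with ⟨j, hj⟩
        match j with
        | 0 => exact hp0
        | 1 => exact hp1
        | k + 2 =>
          rcases Nat.lt_or_ge k m with hk | hk
          · rw [← MulAction.orbit_eq_iff.2 hp1]
            refine ⟨⟨cyc n k, hmem k (by omega)⟩, ?_⟩
            show cyc n k ⟨1, by omega⟩ = _
            rw [cyc, dif_pos (show k + 2 < n by omega), Perm.mul_apply, swap_apply_left,
              swap_apply_of_ne_of_ne (by simp [Fin.ext_iff]) (by simp [Fin.ext_iff])]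
          · obtain rfl : k = m := by omega
            exact MulAction.mem_orbit_self p
      calc m + 3 = Nat.card (Fin (m + 3)) := (Nat.card_fin _).symm
        _ ≤ _ := Nat.card_le_card_of_injective (fun j => (⟨_, hsub j⟩ : MulAction.orbit T p))
            fun a b h => hinj (congrArg Subtype.val h)
    have h3 : Nat.card (MulAction.orbit T p) * Nat.card (MulAction.stabilizer T p) = Nat.card T := by
      rw [← Nat.card_prod]
      exact Nat.card_congr (MulAction.orbitProdStabilizerEquivGroup T p)
    have h4 := ih (by omega)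
    calc (m + 1 + 2).factorial = (m + 3) * (m + 2).factorial := Nat.factorial_succ _
      _ ≤ (m + 3) * (2 * Nat.card S) := Nat.mul_le_mul_left _ h4
      _ = 2 * ((m + 3) * Nat.card S) := by ring
      _ ≤ 2 * (Nat.card (MulAction.orbit T p) * Nat.card (MulAction.stabilizer T p)) :=
        Nat.mul_le_mul_left _ (Nat.mul_le_mul h2 h1)
      _ = 2 * Nat.card T := by rw [h3]

theorem two_mul_card_alt (hn : 2 ≤ n) : 2 * Nat.card (alternatingGroup (Fin n)) = n.factorial := by
  haveI : Nontrivial (Fin n) := Fin.nontrivial_iff_two_le.2 hn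
  rw [two_mul_nat_card_alternatingGroup, Nat.card_perm, Nat.card_fin]

theorem closure_cyc_eq (hn : 2 ≤ n) :
    Subgroup.closure (cyc n '' Set.Iio (n - 2)) = alternatingGroup (Fin n) := by
  refine Subgroup.eq_of_le_of_card_ge ((Subgroup.closure_le _).2 ?_) ?_
  · rintro _ ⟨i, -, rfl⟩
    exact cyc_mem i
  · have h := card_closure_cyc hn (n - 2) (by omega)
    rw [show n - 2 + 2 = n by omega] at h
    have := two_mul_card_alt hn
    omega

theorem conj_swap_mul_swap (π : Perm (Fin n)) (a b c d : Fin n) :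
    π * (swap a b * swap c d) * π⁻¹ = swap (π a) (π b) * swap (π c) (π d) := by
  rw [show π * (swap a b * swap c d) * π⁻¹ = (π * swap a b * π⁻¹) * (π * swap c d * π⁻¹) by group]
  simp [Equiv.swap_apply_apply]

/-- Any two quadruples of distinct points are related by a permutation. -/
theorem exists_perm_four {a b c d a' b' c' d' : Fin n} (h : [a, b, c, d].Nodup) (h' : [a', b', c', d'].Nodup) :
    ∃ π : Perm (Fin n), π a = a' ∧ π b = b' ∧ π c = c' ∧ π d = d' := by
  let f : Fin 4 ↪ Fin n := ⟨[a, b, c, d].get, h.injective_get⟩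
  let g : Fin 4 ↪ Fin n := ⟨[a', b', c', d'].get, h'.injective_get⟩
  obtain ⟨π, hπ⟩ : ∃ π : Perm (Fin n), ∀ i, π (f i) = g i := by
    let e : {x // x ∈ Set.range f} ≃ {x // x ∈ Set.range g} :=
      (Equiv.ofInjective f f.injective).symm.trans (Equiv.ofInjective g g.injective)
    refine ⟨e.extendSubtype, fun i => ?_⟩
    rw [Equiv.extendSubtype_apply_of_mem e (f i) ⟨i, rfl⟩]
    simp [e, Equiv.ofInjective_symm_apply f.injective]
  exact ⟨π, hπ 0, hπ 1, hπ 2, hπ 3⟩

end Perms

section Cover

variable {G : Type*} [Group G] [Finite G] {n : ℕ} {f : G →* alternatingGroup (Fin n)} {z : G}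

/-- The data of a perfect double cover. -/
structure IsDoubleCover (f : G →* alternatingGroup (Fin n)) (z : G) : Prop where
  surj : Function.Surjective f
  central : ∀ g, g * z = z * g
  ne : z ≠ 1
  sq : z * z = 1
  ker : ∀ g, f g = 1 → g = 1 ∨ g = z
  map_z : f z = 1
  perfect : commutator G = ⊤

theorem eq_or_mul (H : IsDoubleCover f z) {g h : G} (e : f g = f h) : g = h ∨ g = h * z := by
  rcases H.ker (h⁻¹ * g) (by rw [map_mul, map_inv, e, inv_mul_cancel]) with h1 | h1
  · exact Or.inl (inv_mul_eq_one.1 h1).symm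
  · exact Or.inr (by rw [← h1, mul_inv_cancel_left])

theorem exists_lift_cube (H : IsDoubleCover f z) {t : alternatingGroup (Fin n)} (ht : t ^ 3 = 1) :
    ∃ T : G, f T = t ∧ T ^ 3 = 1 := by
  obtain ⟨T, rfl⟩ := H.surj t
  rcases H.ker (T ^ 3) (by rw [map_pow, ht]) with h | h
  · exact ⟨T, rfl, h⟩
  · refine ⟨T * z, by rw [map_mul, H.map_z, mul_one], ?_⟩
    rw [(show Commute T z from H.central T).mul_pow, h, pow_succ z 2, sq, ← mul_assoc, ← mul_assoc, H.sq, one_mul,
      H.sq]

/-- Lifts of `(a b)(c d)` and `(a c)(b d)` anticommute. -/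
theorem anticomm (H : IsDoubleCover f z) (hn : 5 ≤ n) {a b c d : Fin n} (hd : [a, b, c, d].Nodup) {U V : G}
    (hU : (f U : Perm (Fin n)) = swap a b * swap c d) (hV : (f V : Perm (Fin n)) = swap a c * swap b d) :
    U * V = V * U * z := by
  simp only [List.nodup_cons, List.mem_cons, List.not_mem_nil, or_false, not_or, List.nodup_nil, and_true,
    not_false_iff] at hd
  obtain ⟨⟨hab, hac, had⟩, ⟨hbc, hbd⟩, hcd⟩ := hd
  have hnd : [a, b, c, d].Nodup := by simp_all
  have hUV : (f U : Perm (Fin n)) * f V = f V * f U := by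
    rw [hU, hV, (four_points hnd).2.1, (four_points hnd).2.2.1]
  rcases eq_or_mul H (g := U * V) (h := V * U) (by rw [map_mul, map_mul]; exact Subtype.ext hUV) with hcomm | h
  swap
  · exact h
  exfalso
  -- squares of lifts of double transpositions
  have hsq : ∀ {W W' : G} {a b c d a' b' c' d' : Fin n}, [a, b, c, d].Nodup → [a', b', c', d'].Nodup →
      (f W : Perm (Fin n)) = swap a b * swap c d → (f W' : Perm (Fin n)) = swap a' b' * swap c' d' →
      W * W = W' * W' := by
    intro W W' a b c d a' b' c' d' h h' hW hW'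
    obtain ⟨π, h1, h2, h3, h4⟩ := exists_perm_four h h'
    have hab' : a ≠ b := by intro e; subst e; simp at h
    have hcd' : c ≠ d := by intro e; subst e; simp at h
    obtain ⟨π', hπ', hπe⟩ : ∃ π' : alternatingGroup (Fin n),
        (π' : Perm (Fin n)) * (f W : Perm (Fin n)) * (π' : Perm (Fin n))⁻¹ = f W' ∧ True := by
      rcases Int.units_eq_one_or (sign π) with hs | hs
      · refine ⟨⟨π, mem_alternatingGroup.2 hs⟩, ?_, trivial⟩
        rw [hW, hW', conj_swap_mul_swap, h1, h2, h3, h4]
      · refine ⟨⟨π * swap a b, mem_alternatingGroup.2 (by rw [map_mul, hs, sign_swap hab']; rfl)⟩, ?_, trivial⟩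
        rw [hW, hW']
        show π * swap a b * _ * (π * swap a b)⁻¹ = _
        rw [conj_swap_mul_swap, Perm.mul_apply, Perm.mul_apply, Perm.mul_apply, Perm.mul_apply,
          swap_apply_left, swap_apply_right, swap_apply_of_ne_of_ne (show c ≠ a by intro e; subst e; simp at h)
            (show c ≠ b by intro e; subst e; simp at h),
          swap_apply_of_ne_of_ne (show d ≠ a by intro e; subst e; simp at h)
            (show d ≠ b by intro e; subst e; simp at h), h1, h2, h3, h4, swap_comm a' b']
    obtain ⟨P, hP⟩ := H.surj π'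
    have e : f (P * W * P⁻¹) = f W' := Subtype.ext (by
      rw [map_mul, map_mul, map_inv, hP]
      exact hπ')
    have hc : P * W * P⁻¹ * (P * W * P⁻¹) = W * W := by
      have hWW : f (W * W) = 1 := Subtype.ext (by
        rw [map_mul]
        show (f W : Perm (Fin n)) * f W = 1
        rw [hW]
        exact (four_points h).2.2.2)
      rw [show P * W * P⁻¹ * (P * W * P⁻¹) = P * (W * W) * P⁻¹ by group]
      rcases H.ker _ hWW with h5 | h5
      · simp [h5]
      · rw [h5, H.central P, mul_inv_cancel_right]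
    rw [← hc]
    rcases eq_or_mul H e with h5 | h5
    · rw [h5]
    · rw [h5, mul_assoc, ← mul_assoc z, ← H.central W', mul_assoc W' z z, H.sq, mul_one]
  have hUV3 : (f (U * V) : Perm (Fin n)) = swap a d * swap b c := by
    rw [map_mul, Subgroup.coe_mul, hU, hV, (four_points hnd).2.1]
  have hW : U * U = V * V := hsq hnd (by simp_all [Ne.symm]) hU hV
  have hW2 : U * V * (U * V) = U * U := hsq (by simp_all [Ne.symm]) hnd hUV3 hU
  have h1 : U * U = 1 := by
    rw [show U * V * (U * V) = U * U * (V * V) by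
      rw [mul_assoc, ← mul_assoc V, ← hcomm]; group, ← hW] at hW2
    exact mul_eq_left.1 hW2
  have hall : ∀ {W : G} {a' b' c' d' : Fin n}, [a', b', c', d'].Nodup →
      (f W : Perm (Fin n)) = swap a' b' * swap c' d' → W * W = 1 := fun h' hW' => (hsq h' hnd hW' hU).trans h1
  -- the lifted three-cycles generate a complement
  have hl : ∀ i, ∃ T : G, f T = (⟨cyc n i, cyc_mem i⟩ : alternatingGroup (Fin n)) ∧ T ^ 3 = 1 :=
    fun i => exists_lift_cube H (Subtype.ext (cyc_cube i))
  choose X hX hX3 using hl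
  have hrel : ∀ i < n - 2, ∀ j < n - 2, i ≠ j → X i * X j = (X j)⁻¹ * (X i)⁻¹ := by
    intro i hi j hj hij
    have e : (f (X i * X j) : Perm (Fin n)) =
        swap ⟨0, by omega⟩ ⟨i + 2, by omega⟩ * swap ⟨1, by omega⟩ ⟨j + 2, by omega⟩ := by
      rw [map_mul, hX, hX]
      exact cyc_mul i j (by omega) (by omega) hij
    have := hall (by simp [Fin.ext_iff]; omega) e
    rw [← mul_inv_rev, eq_inv_iff_mul_eq_one]
    exact this
  set L := gen X (n - 2) with hL
  have hcard : 2 * Nat.card L ≤ n.factorial := by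
    have := card_gen_le (X := X) (m := n - 2) (fun i _ => hX3 i) hrel
    rwa [show n - 2 + 2 = n by omega] at this
  have htop : L.map f = ⊤ := by
    apply Subgroup.map_injective (f := (alternatingGroup (Fin n)).subtype) Subtype.val_injective
    rw [Subgroup.map_map, hL, gen, MonoidHom.map_closure, ← Set.image_comp]
    rw [show (⇑((alternatingGroup (Fin n)).subtype.comp f) ∘ X) = cyc n from
      funext fun i => by simp [hX]]
    rw [closure_cyc_eq (by omega), ← MonoidHom.range_eq_map, Subgroup.range_subtype]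
  have hLtop : L = ⊤ := by
    have hdec : ∀ g, ∃ l ∈ L, g = l ∨ g = l * z := fun g => by
      obtain ⟨l, hl, hlg⟩ : f g ∈ L.map f := htop.symm ▸ Subgroup.mem_top _
      exact ⟨l, hl, eq_or_mul H hlg.symm⟩
    rw [eq_top_iff, ← H.perfect, commutator_eq_closure, Subgroup.closure_le]
    rintro _ ⟨g, h, rfl⟩
    obtain ⟨l, hl, hg⟩ := hdec g
    obtain ⟨l', hl', hh⟩ := hdec h
    have hz : ∀ x, Commute x z := H.central
    have hin : ⁅g, h⁆ = ⁅l, l'⁆ := by
      rcases hg with rfl | rfl <;> rcases hh with rfl | rfl <;>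
        simp only [commutatorElement_def, mul_inv_rev]
      · rw [show g * (l' * z) * g⁻¹ * (z⁻¹ * l'⁻¹) = g * l' * (z * g⁻¹ * z⁻¹) * l'⁻¹ by group,
          ← (hz g⁻¹).eq, mul_inv_cancel_right]
      · rw [show l * z * h * (z⁻¹ * l⁻¹) * h⁻¹ = l * (z * h * z⁻¹) * l⁻¹ * h⁻¹ by group,
          ← (hz h).eq, mul_inv_cancel_right]
      · rw [show l * z * (l' * z) * (z⁻¹ * l⁻¹) * (z⁻¹ * l'⁻¹) = l * (z * l' * z⁻¹) * z * (l⁻¹ * z⁻¹) * l'⁻¹ by group,
          ← (hz l').eq, mul_inv_cancel_right]
        rw [show l * l' * z * (l⁻¹ * z⁻¹) * l'⁻¹ = l * l' * (z * l⁻¹ * z⁻¹) * l'⁻¹ by group,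
          ← (hz l⁻¹).eq, mul_inv_cancel_right]
    rw [hin]
    simp only [SetLike.mem_coe, commutatorElement_def]
    exact mul_mem (mul_mem (mul_mem hl hl') (inv_mem hl)) (inv_mem hl')
  rw [hLtop, Subgroup.card_top] at hcard
  have hk : Nat.card f.ker = 2 := by
    rw [show f.ker = Subgroup.zpowers z from ?_, Nat.card_zpowers, orderOf_eq_prime (by rw [sq]; exact H.sq) H.ne]
    refine le_antisymm (fun g hg => ?_) (by rw [Subgroup.zpowers_le]; exact H.map_z)
    rcases H.ker g hg with rfl | rfl
    · exact one_mem _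
    · exact Subgroup.mem_zpowers g
  have hG : Nat.card G = 2 * Nat.card (alternatingGroup (Fin n)) := by
    rw [← Subgroup.card_mul_index f.ker, hk, Subgroup.index_ker, MonoidHom.range_eq_top.2 H.surj, Subgroup.card_top]
  have := two_mul_card_alt (n := n) (by omega)
  have := Nat.factorial_pos n
  omega

end Cover

end CfsgLib.AltDoubleCover
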