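import Mathlib

/-!
# Factorisations of cycles into two permutations of prescribed cycle types
-/

set_option autoImplicit false

namespace CfsgLib.AltDoubleCover

open Equiv Equiv.Perm

variable {α β : Type*} [Fintype α] [DecidableEq α] [Fintype β] [DecidableEq β]

/-- `g` is a product of two permutations of cycle types `S` and `T` moving only points moved by `g`. -/
def Split (g : Perm α) (S T : Multiset ℕ) : Prop :=
  ∃ x y : Perm α, x * y = g ∧ x.cycleType = S ∧ y.cycleType = T ∧
    x.support ⊆ g.support ∧ y.support ⊆ g.support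

theorem split_one : Split (1 : Perm α) 0 0 :=
  ⟨1, 1, mul_one 1, cycleType_one, cycleType_one, Finset.Subset.refl _, Finset.Subset.refl _⟩

theorem Split.mul {g h : Perm α} {S T S' T' : Multiset ℕ} (hd : Disjoint g h) (hg : Split g S T)
    (hh : Split h S' T') : Split (g * h) (S + S') (T + T') := by
  obtain ⟨x, y, rfl, hx, hy, hxs, hys⟩ := hg
  obtain ⟨u, v, rfl, hu, hv, hus, hvs⟩ := hh
  rw [disjoint_iff_disjoint_support] at hd
  have hxu : Disjoint x u := disjoint_iff_disjoint_support.2 (hd.mono hxs hus)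
  have hyv : Disjoint y v := disjoint_iff_disjoint_support.2 (hd.mono hys hvs)
  have hyu : Disjoint y u := disjoint_iff_disjoint_support.2 (hd.mono hys hus)
  have hgh : (x * y * (u * v)).support = (x * y).support ∪ (u * v).support :=
    (disjoint_iff_disjoint_support.2 hd).support_mul
  refine ⟨x * u, y * v, ?_, by rw [hxu.cycleType_mul, hx, hu], by rw [hyv.cycleType_mul, hy, hv], ?_, ?_⟩
  · rw [mul_assoc, ← mul_assoc u, ← hyu.commute.eq]
    group
  · rw [hxu.support_mul, hgh]
    exact Finset.union_subset_union hxs hus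
  · rw [hyv.support_mul, hgh]
    exact Finset.union_subset_union hys hvs

theorem Split.conj {g : Perm α} {S T : Multiset ℕ} (π : Perm α) (h : Split g S T) :
    Split (π * g * π⁻¹) S T := by
  obtain ⟨x, y, rfl, hx, hy, hxs, hys⟩ := h
  refine ⟨π * x * π⁻¹, π * y * π⁻¹, by group, by rw [cycleType_conj, hx], by rw [cycleType_conj, hy], ?_, ?_⟩
  · rw [support_conj, support_conj]
    exact Finset.map_subset_map.2 hxs
  · rw [support_conj, support_conj]
    exact Finset.map_subset_map.2 hys

/-- Transport along an injection. -/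
theorem Split.of_cycleType {g₀ : Perm β} {S T : Multiset ℕ} (h : Split g₀ S T) (e : β ↪ α) {g : Perm α}
    (hg : g.cycleType = g₀.cycleType) : Split g S T := by
  classical
  let f : β ≃ {a // a ∈ Set.range e} := Equiv.ofInjective e e.injective
  obtain ⟨π, hπ⟩ := isConj_iff.1 (isConj_iff_cycleType_eq.2
    (show (g₀.extendDomain f).cycleType = g.cycleType by rw [cycleType_extendDomain, hg]))
  rw [← hπ]
  refine Split.conj π ?_
  obtain ⟨x, y, rfl, hx, hy, hxs, hys⟩ := h
  refine ⟨x.extendDomain f, y.extendDomain f, extendDomain_mul f x y, by rw [cycleType_extendDomain, hx],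
    by rw [cycleType_extendDomain, hy], ?_, ?_⟩
  · rw [support_extend_domain, support_extend_domain]
    exact Finset.map_subset_map.2 hxs
  · rw [support_extend_domain, support_extend_domain]
    exact Finset.map_subset_map.2 hys

theorem cycleType_of_sq {x : Perm α} (h : x * x = 1) :
    x.cycleType = Multiset.replicate (x.support.card / 2) 2 := by
  have hall : ∀ k ∈ x.cycleType, k = 2 := fun k hk => by
    have h1 := two_le_of_mem_cycleType hk
    have h2 : k ∣ 2 := (dvd_of_mem_cycleType hk).trans (orderOf_dvd_of_pow_eq_one (by rw [sq, h]))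
    have := Nat.le_of_dvd two_pos h2
    omega
  have hrep := Multiset.eq_replicate_of_mem hall
  rw [hrep]
  congr 1
  have := sum_cycleType x
  rw [hrep, Multiset.sum_replicate, smul_eq_mul] at this
  omega

theorem cycleType_formPerm' {l : List α} (hl : l.Nodup) (hn : 2 ≤ l.length) :
    (List.formPerm l).cycleType = {l.length} := by
  rw [(List.isCycle_formPerm hl hn).cycleType, List.support_formPerm_of_nodup l hl
    (by rintro x rfl; simp at hn), List.toFinset_card_of_nodup hl]

/-- An involution times a transposition across two of its transpositions. -/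
theorem cycleType_mul_swap {s : Perm α} (hs : s * s = 1) {a b : α} (hab : a ≠ b) (ha : s a ≠ a) (hb : s b ≠ b)
    (hsab : s a ≠ b) :
    (s * swap a b).cycleType = 4 ::ₘ Multiset.replicate (s.support.card / 2 - 2) 2 := by
  classical
  have hinv : ∀ u, s (s u) = u := fun u => by rw [← Perm.mul_apply, hs]; rfl
  obtain ⟨A, hA⟩ : ∃ A, s a = A := ⟨_, rfl⟩
  obtain ⟨B, hB⟩ : ∃ B, s b = B := ⟨_, rfl⟩
  have hA' : s A = a := by rw [← hA, hinv]
  have hB' : s B = b := by rw [← hB, hinv]
  rw [hA] at ha hsab
  rw [hB] at hb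
  have hBa : B ≠ a := fun e => hsab (by rw [← hA, ← e, hB'])
  have hAB : A ≠ B := fun e => hab (s.injective (by rw [hA, hB, e]))
  have hd1 : Disjoint (swap a A) (swap b B) := by
    rw [disjoint_iff_disjoint_support, support_swap (Ne.symm ha), support_swap (Ne.symm hb)]
    simp [hab.symm, hBa, hsab.symm, hAB.symm]
  obtain ⟨d, hd⟩ : ∃ d, swap a A * swap b B = d := ⟨_, rfl⟩
  have hdd : d * d = 1 := by
    rw [← hd, show swap a A * swap b B * (swap a A * swap b B) =
      swap a A * (swap b B * swap a A) * swap b B by group, ← hd1.commute.eq]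
    simp [mul_assoc, ← mul_assoc (swap a A) (swap a A)]
  have hdsupp : d.support = {a, A, b, B} := by
    rw [← hd, hd1.support_mul, support_swap (Ne.symm ha), support_swap (Ne.symm hb)]
    ext u
    simp only [Finset.mem_union, Finset.mem_insert, Finset.mem_singleton]
    tauto
  obtain ⟨s0, hs0⟩ : ∃ s0, d * s = s0 := ⟨_, rfl⟩
  have hs0fix : ∀ u ∈ d.support, s0 u = u := by
    intro u hu
    rw [hdsupp] at hu
    simp only [Finset.mem_insert, Finset.mem_singleton] at hu
    rw [← hs0, ← hd, Perm.mul_apply, Perm.mul_apply]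
    rcases hu with hu | hu | hu | hu <;> rw [hu]
    · rw [hA, swap_apply_of_ne_of_ne hsab hAB, swap_apply_right]
    · rw [hA', swap_apply_of_ne_of_ne hab hBa.symm, swap_apply_left]
    · rw [hB, swap_apply_right, swap_apply_of_ne_of_ne hab.symm hsab.symm]
    · rw [hB', swap_apply_left, swap_apply_of_ne_of_ne hBa hAB.symm]
  have hdisj : Disjoint d s0 := fun u => by
    by_cases hu : u ∈ d.support
    · exact Or.inr (hs0fix u hu)
    · exact Or.inl (notMem_support.1 hu)
  have hsd : s = d * s0 := by rw [← hs0, ← mul_assoc, hdd, one_mul]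
  have hsupp : s.support.card = 4 + s0.support.card := by
    rw [hsd, hdisj.card_support_mul, hdsupp, Finset.card_insert_of_notMem, Finset.card_insert_of_notMem,
      Finset.card_insert_of_notMem, Finset.card_singleton]
    · simp [Ne.symm hb]
    · simp [hsab, hAB]
    · simp [Ne.symm ha, hab, Ne.symm hBa]
  have hs0sq : s0 * s0 = 1 := by
    have h1 : d * d * (s0 * s0) = 1 := by
      rw [show d * d * (s0 * s0) = d * (d * s0) * s0 by group, hdisj.commute.eq,
        show d * (s0 * d) * s0 = (d * s0) * (d * s0) by group, ← hsd, hs]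
    rwa [hdd, one_mul] at h1
  have hw4 : d * swap a b = List.formPerm [a, B, b, A] := by
    rw [← hd]
    ext u
    simp only [List.formPerm_cons_cons, List.formPerm_singleton, mul_one, Perm.mul_apply]
    by_cases e1 : u = a
    · subst e1; simp [swap_apply_def, ha, hb, hab, hsab, hBa, hAB, Ne.symm ha, Ne.symm hb, hab.symm, hsab.symm, hBa.symm, hAB.symm]
    by_cases e2 : u = A
    · subst e2; simp [swap_apply_def, ha, hb, hab, hsab, hBa, hAB, Ne.symm ha, Ne.symm hb, hab.symm, hsab.symm, hBa.symm, hAB.symm]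
    by_cases e3 : u = b
    · subst e3; simp [swap_apply_def, ha, hb, hab, hsab, hBa, hAB, Ne.symm ha, Ne.symm hb, hab.symm, hsab.symm, hBa.symm, hAB.symm]
    by_cases e4 : u = B
    · subst e4; simp [swap_apply_def, ha, hb, hab, hsab, hBa, hAB, Ne.symm ha, Ne.symm hb, hab.symm, hsab.symm, hBa.symm, hAB.symm]
    simp [swap_apply_of_ne_of_ne, e1, e2, e3, e4]
  have hnd' : [a, B, b, A].Nodup := by simp [hab, Ne.symm hBa, Ne.symm ha, hb, hAB.symm, Ne.symm hsab]
  have hsw : s * swap a b = d * swap a b * s0 := by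
    have hc : Commute (swap a b) s0 := by
      refine (disjoint_iff_disjoint_support.2 ?_).commute
      rw [support_swap hab, Finset.disjoint_left]
      intro u hu hu0
      refine mem_support.1 hu0 (hs0fix u ?_)
      rw [hdsupp]
      simp only [Finset.mem_insert, Finset.mem_singleton] at hu ⊢
      tauto
    rw [hsd, mul_assoc, ← hc.eq, mul_assoc]
  have hwsupp : (d * swap a b).support ⊆ d.support := by
    rw [hw4, List.support_formPerm_of_nodup _ hnd' (by simp), hdsupp]
    intro u hu
    simp only [List.mem_toFinset, List.mem_cons, List.not_mem_nil, or_false] at hu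
    simp only [Finset.mem_insert, Finset.mem_singleton]
    tauto
  have hwdisj : Disjoint (d * swap a b) s0 :=
    disjoint_iff_disjoint_support.2 ((disjoint_iff_disjoint_support.1 hdisj).mono_left hwsupp)
  rw [hsw, hwdisj.cycleType_mul, cycleType_of_sq hs0sq, hw4, cycleType_formPerm' hnd' (by simp),
    show (s.support.card / 2 - 2) = s0.support.card / 2 by omega]
  simp

theorem cycleType_swap_mul {s : Perm α} (hs : s * s = 1) {a b : α} (hab : a ≠ b) (ha : s a ≠ a) (hb : s b ≠ b)
    (hsab : s a ≠ b) :
    (swap a b * s).cycleType = 4 ::ₘ Multiset.replicate (s.support.card / 2 - 2) 2 := by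
  rw [← cycleType_mul_swap hs hab ha hb hsab,
    show s * swap a b = swap a b * (swap a b * s) * (swap a b)⁻¹ by
      rw [← mul_assoc, swap_mul_self, one_mul, swap_inv], cycleType_conj]

section Cycle

variable {m : ℕ}

/-- The reflection `i ↦ -i`. -/
def refl0 (m : ℕ) : Perm (Fin (m + 2)) := finRotate (m + 2) * Fin.revPerm

theorem val_refl0 (i : Fin (m + 2)) : (refl0 m i).val = if i.val = 0 then 0 else m + 2 - i.val := by
  show (finRotate (m + 2) (Fin.rev i)).val = _
  rw [coe_finRotate]
  have hv := Fin.val_rev i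
  have := i.2
  simp only [Fin.ext_iff, Fin.val_last]
  split_ifs <;> omega

theorem refl0_sq : refl0 m * refl0 m = 1 := by
  ext i
  rw [Perm.mul_apply, val_refl0, val_refl0]
  have := i.2
  show _ = i.val
  split_ifs <;> omega

theorem rev_sq : (Fin.revPerm : Perm (Fin (m + 2))) * Fin.revPerm = 1 := by
  ext i
  simp

theorem refl0_mul_rev : refl0 m * Fin.revPerm = finRotate (m + 2) := by
  rw [refl0, mul_assoc, rev_sq, mul_one]

theorem card_support_rev : (Fin.revPerm : Perm (Fin (m + 2))).support.card = if Even m then m + 2 else m + 1 := by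
  split_ifs with h
  · rw [show (Fin.revPerm : Perm (Fin (m + 2))).support = Finset.univ from Finset.eq_univ_of_forall fun i => by
      rw [mem_support, Fin.revPerm_apply, ne_eq, Fin.ext_iff, Fin.val_rev]
      obtain ⟨c, rfl⟩ := h
      omega, Finset.card_univ, Fintype.card_fin]
  · obtain ⟨c, rfl⟩ := Nat.not_even_iff_odd.1 h
    rw [show (Fin.revPerm : Perm (Fin (2 * c + 1 + 2))).support = {(⟨c + 1, by omega⟩ : Fin (2 * c + 1 + 2))}ᶜ from by
      ext i
      rw [mem_support, Fin.revPerm_apply, ne_eq, Fin.ext_iff, Fin.val_rev, Finset.mem_compl, Finset.mem_singleton,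
        Fin.ext_iff]
      simp only
      omega, Finset.card_compl, Finset.card_singleton, Fintype.card_fin]
    omega

theorem card_support_refl0 : (refl0 m).support.card = if Even m then m else m + 1 := by
  split_ifs with h
  · obtain ⟨c, rfl⟩ := h
    rw [show (refl0 (c + c)).support = {(⟨0, by omega⟩ : Fin (c + c + 2)), ⟨c + 1, by omega⟩}ᶜ from by
      ext i
      rw [mem_support, ne_eq, Fin.ext_iff, val_refl0, Finset.mem_compl, Finset.mem_insert, Finset.mem_singleton,
        Fin.ext_iff, Fin.ext_iff]
      have := i.2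
      simp only
      split_ifs <;> omega, Finset.card_compl, Finset.card_pair (by simp [Fin.ext_iff]), Fintype.card_fin]
    omega
  · obtain ⟨c, rfl⟩ := Nat.not_even_iff_odd.1 h
    rw [show (refl0 (2 * c + 1)).support = {(⟨0, by omega⟩ : Fin (2 * c + 1 + 2))}ᶜ from by
      ext i
      rw [mem_support, ne_eq, Fin.ext_iff, val_refl0, Finset.mem_compl, Finset.mem_singleton,
        Fin.ext_iff]
      have := i.2
      simp only
      split_ifs <;> omega, Finset.card_compl, Finset.card_singleton, Fintype.card_fin]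
    omega

theorem support_finRotate_univ (x : Perm (Fin (m + 2))) : x.support ⊆ (finRotate (m + 2)).support := by
  rw [support_finRotate]
  exact Finset.subset_univ _

/-- A cycle of length `k` as a product of two involutions. -/
theorem split_cycle_model (k : ℕ) (hk : 2 ≤ k) :
    ∃ g₀ : Perm (Fin k), g₀.cycleType = {k} ∧
      (if Even k then Split g₀ (Multiset.replicate (k / 2 - 1) 2) (Multiset.replicate (k / 2) 2) ∧
          Split g₀ (Multiset.replicate (k / 2) 2) (Multiset.replicate (k / 2 - 1) 2)
        else Split g₀ (Multiset.replicate (k / 2) 2) (Multiset.replicate (k / 2) 2)) := by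
  obtain ⟨m, rfl⟩ := Nat.exists_eq_add_of_le' hk
  refine ⟨finRotate (m + 2), cycleType_finRotate, ?_⟩
  have hx : (refl0 m).cycleType = Multiset.replicate ((if Even m then m else m + 1) / 2) 2 := by
    rw [cycleType_of_sq refl0_sq, card_support_refl0]
  have hy : (Fin.revPerm : Perm (Fin (m + 2))).cycleType =
      Multiset.replicate ((if Even m then m + 2 else m + 1) / 2) 2 := by
    rw [cycleType_of_sq rev_sq, card_support_rev]
  by_cases h : Even m
  · rw [if_pos (by rwa [Nat.even_add, iff_true_right even_two])]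
    rw [if_pos h] at hx hy
    obtain ⟨c, rfl⟩ := h
    refine ⟨⟨refl0 _, Fin.revPerm, refl0_mul_rev, ?_, ?_, support_finRotate_univ _, support_finRotate_univ _⟩,
      ⟨refl0 _ * Fin.revPerm * (refl0 _)⁻¹, refl0 _, ?_, ?_, ?_, support_finRotate_univ _,
        support_finRotate_univ _⟩⟩
    · rw [hx]
      congr 1
      omega
    · rw [hy]
    · rw [inv_mul_cancel_right, refl0_mul_rev]
    · rw [cycleType_conj, hy]
    · rw [hx]
      congr 1
      omega
  · rw [if_neg (by rwa [Nat.even_add, iff_true_right even_two])]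
    rw [if_neg h] at hx hy
    obtain ⟨c, rfl⟩ := Nat.not_even_iff_odd.1 h
    refine ⟨refl0 _, Fin.revPerm, refl0_mul_rev, ?_, ?_, support_finRotate_univ _, support_finRotate_univ _⟩
    · rw [hx]
      congr 1
      omega
    · rw [hy]
      congr 1
      omega

/-- A cycle of length `k ≥ 5` as a product of two permutations with one 4-cycle and transpositions. -/
theorem split_flip_model (k : ℕ) (hk : 5 ≤ k) :
    ∃ g₀ : Perm (Fin k), g₀.cycleType = {k} ∧
      (if Even k then Split g₀ (4 ::ₘ Multiset.replicate (k / 2 - 3) 2) (4 ::ₘ Multiset.replicate (k / 2 - 2) 2)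
        else Split g₀ (4 ::ₘ Multiset.replicate (k / 2 - 2) 2) (4 ::ₘ Multiset.replicate (k / 2 - 2) 2)) := by
  obtain ⟨m, rfl⟩ := Nat.exists_eq_add_of_le' (show 2 ≤ k by omega)
  refine ⟨finRotate (m + 2), cycleType_finRotate, ?_⟩
  obtain ⟨a, b, hab, ha, hb, hsab, ha', hb', hsab'⟩ : ∃ a b : Fin (m + 2), a ≠ b ∧ refl0 m a ≠ a ∧
      refl0 m b ≠ b ∧ refl0 m a ≠ b ∧ Fin.revPerm a ≠ a ∧ Fin.revPerm b ≠ b ∧ Fin.revPerm a ≠ b := by
    rcases eq_or_ne m 3 with rfl | hm
    · refine ⟨⟨3, by omega⟩, ⟨4, by omega⟩, ?_⟩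
      simp [Fin.ext_iff, val_refl0, Fin.val_rev]
    · refine ⟨⟨1, by omega⟩, ⟨2, by omega⟩, ?_⟩
      simp [Fin.ext_iff, val_refl0, Fin.val_rev]
      omega
  have hprod : refl0 m * swap a b * (swap a b * Fin.revPerm) = finRotate (m + 2) := by
    rw [mul_assoc, swap_mul_self_mul, refl0_mul_rev]
  have hx := cycleType_mul_swap refl0_sq hab ha hb hsab
  have hy := cycleType_swap_mul rev_sq hab ha' hb' hsab'
  rw [card_support_refl0] at hx
  rw [card_support_rev] at hy
  by_cases h : Even m
  · rw [if_pos (by rwa [Nat.even_add, iff_true_right even_two])]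
    rw [if_pos h] at hx hy
    obtain ⟨c, rfl⟩ := h
    refine ⟨_, _, hprod, ?_, ?_, support_finRotate_univ _, support_finRotate_univ _⟩
    · rw [hx]
      congr 2
      omega
    · rw [hy]
  · rw [if_neg (by rwa [Nat.even_add, iff_true_right even_two])]
    rw [if_neg h] at hx hy
    obtain ⟨c, rfl⟩ := Nat.not_even_iff_odd.1 h
    refine ⟨_, _, hprod, ?_, ?_, support_finRotate_univ _, support_finRotate_univ _⟩
    · rw [hx]
      congr 2
      omega
    · rw [hy]
      congr 2
      omega

end Cycle

/-- Two cycles of equal length `k` as a product of two involutions with `k` transpositions each. -/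
theorem split_pair_model (k : ℕ) (hk : 2 ≤ k) :
    ∃ g₀ : Perm (Fin k ⊕ Fin k), g₀.cycleType = {k, k} ∧
      Split g₀ (Multiset.replicate k 2) (Multiset.replicate k 2) := by
  classical
  obtain ⟨m, rfl⟩ := Nat.exists_eq_add_of_le' hk
  set R := finRotate (m + 2) with hR
  let X : Perm (Fin (m + 2)) → Perm (Fin (m + 2) ⊕ Fin (m + 2)) := fun σ =>
    Equiv.sumCongr σ σ * Equiv.sumComm _ _
  have hX : ∀ σ : Perm (Fin (m + 2)), σ * σ = 1 → (X σ).cycleType = Multiset.replicate (m + 2) 2 := by
    intro σ hσ
    have h2 : ∀ i, σ (σ i) = i := fun i => by rw [← Perm.mul_apply, hσ]; rfl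
    have hs : (X σ).support = Finset.univ := Finset.eq_univ_of_forall fun u => by
      rw [mem_support]
      rcases u with i | i <;> simp [X]
    rw [cycleType_of_sq (by ext (i | i) <;> simp [X, h2]), hs, Finset.card_univ, Fintype.card_sum,
      Fintype.card_fin]
    congr 1
    omega
  have hl : Equiv.Perm.sumCongr R 1 = R.extendDomain (Equiv.ofInjective Sum.inl (Sum.inl_injective (β := Fin (m + 2)))) := by
    ext (i | i)
    · exact (extendDomain_apply_image R (Equiv.ofInjective Sum.inl Sum.inl_injective) i).symm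
    · rw [extendDomain_apply_not_subtype _ _ (by simp)]
      rfl
  have hr : Equiv.Perm.sumCongr 1 R = R.extendDomain (Equiv.ofInjective Sum.inr (Sum.inr_injective (α := Fin (m + 2)))) := by
    ext (i | i)
    · rw [extendDomain_apply_not_subtype _ _ (by simp)]
      rfl
    · exact (extendDomain_apply_image R (Equiv.ofInjective Sum.inr Sum.inr_injective) i).symm
  have hdisj : Disjoint (Equiv.Perm.sumCongr R (1 : Perm (Fin (m + 2)))) (Equiv.Perm.sumCongr (1 : Perm (Fin (m + 2))) R) :=
    fun u => by rcases u with i | i <;> simp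
  refine ⟨Equiv.Perm.sumCongr R R, ?_, ?_⟩
  · rw [show Equiv.Perm.sumCongr R R = Equiv.Perm.sumCongr R 1 * Equiv.Perm.sumCongr 1 R by simp,
      hdisj.cycleType_mul, hl, hr, cycleType_extendDomain, cycleType_extendDomain, hR, cycleType_finRotate]
    rfl
  · have hsupp : (Equiv.Perm.sumCongr R R).support = Finset.univ := Finset.eq_univ_of_forall fun u => by
      have h : ∀ i, R i ≠ i := fun i => mem_support.1 (by rw [hR, support_finRotate]; simp)
      rw [mem_support]
      rcases u with i | i <;> simp [h]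
    refine ⟨X (refl0 m), X Fin.revPerm, ?_, hX _ refl0_sq, hX _ rev_sq, by simp [hsupp], by simp [hsupp]⟩
    rw [hR, ← refl0_mul_rev]
    ext (i | i) <;> simp [X]

theorem cycleType_formPerm₂ {l₁ l₂ : List α} (h : (l₁ ++ l₂).Nodup) (h1 : 2 ≤ l₁.length) (h2 : 2 ≤ l₂.length) :
    (List.formPerm l₁ * List.formPerm l₂).cycleType = {l₁.length, l₂.length} := by
  obtain ⟨n1, n2, n3⟩ := List.nodup_append.1 h
  rw [((List.formPerm_disjoint_iff n1 n2 h1 h2).2 fun x hx hx' => n3 x hx x hx' rfl).cycleType_mul,
    cycleType_formPerm' n1 h1, cycleType_formPerm' n2 h2]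
  rfl

theorem cycleType_formPerm₃ {l₁ l₂ l₃ : List α} (h : (l₁ ++ l₂ ++ l₃).Nodup) (h1 : 2 ≤ l₁.length)
    (h2 : 2 ≤ l₂.length) (h3 : 2 ≤ l₃.length) :
    (List.formPerm l₁ * List.formPerm l₂ * List.formPerm l₃).cycleType = {l₁.length, l₂.length, l₃.length} := by
  obtain ⟨n12, n3, n4⟩ := List.nodup_append.1 h
  obtain ⟨n1, n2, -⟩ := List.nodup_append.1 n12
  have d1 := (List.formPerm_disjoint_iff n1 n3 h1 h3).2 fun x hx hx' => n4 x (List.mem_append_left _ hx) x hx' rfl
  have d2 := (List.formPerm_disjoint_iff n2 n3 h2 h3).2 fun x hx hx' => n4 x (List.mem_append_right _ hx) x hx' rfl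
  rw [(d1.mul_left d2).cycleType_mul, cycleType_formPerm₂ n12 h1 h2, cycleType_formPerm' n3 h3]
  rfl

theorem split_base₇ : ∃ g₀ : Perm (Fin 7), g₀.cycleType = {7} ∧ Split g₀ {3, 2, 2} {3, 2, 2} :=
  ⟨List.formPerm [0, 1, 2, 3, 4, 5, 6], cycleType_formPerm' (by decide) (by decide),
    List.formPerm [0, 4, 1] * List.formPerm [2, 6] * List.formPerm [3, 5],
    List.formPerm [0, 4, 3] * List.formPerm [1, 6] * List.formPerm [2, 5],
    by decide, cycleType_formPerm₃ (by decide) (by decide) (by decide) (by decide),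
    cycleType_formPerm₃ (by decide) (by decide) (by decide) (by decide), by decide, by decide⟩

theorem split_base₃₅ : ∃ g₀ : Perm (Fin 8), g₀.cycleType = {3, 5} ∧ Split g₀ {3, 2, 2} {3, 2, 2} :=
  ⟨List.formPerm [0, 1, 2] * List.formPerm [3, 4, 5, 6, 7], cycleType_formPerm₂ (by decide) (by decide) (by decide),
    List.formPerm [0, 1, 3] * List.formPerm [2, 4] * List.formPerm [5, 7],
    List.formPerm [1, 4, 7] * List.formPerm [2, 3] * List.formPerm [5, 6],
    by decide, cycleType_formPerm₃ (by decide) (by decide) (by decide) (by decide),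
    cycleType_formPerm₃ (by decide) (by decide) (by decide) (by decide), by decide, by decide⟩

theorem split_base₂₆ : ∃ g₀ : Perm (Fin 8), g₀.cycleType = {2, 6} ∧ Split g₀ {3, 2, 2} {3, 2, 2} :=
  ⟨List.formPerm [0, 1] * List.formPerm [2, 3, 4, 5, 6, 7], cycleType_formPerm₂ (by decide) (by decide) (by decide),
    List.formPerm [0, 1, 2] * List.formPerm [3, 7] * List.formPerm [4, 6],
    List.formPerm [1, 2, 7] * List.formPerm [3, 6] * List.formPerm [4, 5],
    by decide, cycleType_formPerm₃ (by decide) (by decide) (by decide) (by decide),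
    cycleType_formPerm₃ (by decide) (by decide) (by decide) (by decide), by decide, by decide⟩

theorem split_base₂₃₄ : ∃ g₀ : Perm (Fin 9), g₀.cycleType = {2, 3, 4} ∧ Split g₀ {3, 2, 2} {3, 2, 2} :=
  ⟨List.formPerm [0, 1] * List.formPerm [2, 3, 4] * List.formPerm [5, 6, 7, 8],
    cycleType_formPerm₃ (by decide) (by decide) (by decide) (by decide),
    List.formPerm [0, 1, 2] * List.formPerm [3, 4] * List.formPerm [5, 7],
    List.formPerm [1, 2, 4] * List.formPerm [5, 6] * List.formPerm [7, 8],
    by decide, cycleType_formPerm₃ (by decide) (by decide) (by decide) (by decide),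
    cycleType_formPerm₃ (by decide) (by decide) (by decide) (by decide), by decide, by decide⟩

end CfsgLib.AltDoubleCover
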