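import Cfsg.Agent.AltDoubleCover.Anti

/-!
# Both lifts of a product of two conjugate permutations with two transpositions are commutators
-/

set_option autoImplicit false

namespace CfsgLib.AltDoubleCover

open Equiv Equiv.Perm

variable {n : ℕ}

/-- `g = x * y` with `x, y` even of equal cycle type containing two transpositions. -/
def HasPair (g : Perm (Fin n)) : Prop :=
  ∃ x y : Perm (Fin n), x * y = g ∧ x.cycleType = y.cycleType ∧ sign x = 1 ∧ 2 ≤ x.cycleType.count 2

theorem exists_two_swaps {x : Perm (Fin n)} (hx : 2 ≤ x.cycleType.count 2) :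
    ∃ a b c d : Fin n, [a, b, c, d].Nodup ∧ x a = b ∧ x b = a ∧ x c = d ∧ x d = c := by
  classical
  set S := x.cycleFactorsFinset.filter (fun σ => σ.support.card = 2) with hS
  have h1 : 1 < S.card := by
    rw [cycleType_def, Multiset.count_map] at hx
    have : S.card = Multiset.card (Multiset.filter (fun σ => 2 = (Finset.card ∘ support) σ) x.cycleFactorsFinset.val) := by
      rw [hS, Finset.card_def, Finset.filter_val]
      congr 1
      exact Multiset.filter_congr fun σ _ => eq_comm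
    omega
  obtain ⟨σ, hσ, τ, hτ, hne⟩ := Finset.one_lt_card.1 h1
  obtain ⟨hσ1, hσ2⟩ := Finset.mem_filter.1 hσ
  obtain ⟨hτ1, hτ2⟩ := Finset.mem_filter.1 hτ
  have hdis := cycleFactorsFinset_pairwise_disjoint x hσ1 hτ1 hne
  have hmem : ∀ ρ ∈ x.cycleFactorsFinset, ∀ u ∈ ρ.support, x u = ρ u := fun ρ hρ u hu =>
    ((mem_cycleFactorsFinset_iff.1 hρ).2 u hu).symm
  obtain ⟨a, b, hab, rfl⟩ := card_support_eq_two.1 hσ2
  obtain ⟨c, d, hcd, rfl⟩ := card_support_eq_two.1 hτ2
  have hd' := Finset.disjoint_left.1 (disjoint_iff_disjoint_support.1 hdis)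
  rw [support_swap hab, support_swap hcd] at hd'
  refine ⟨a, b, c, d, ?_, ?_, ?_, ?_, ?_⟩
  · have h2 := hd' (a := a) (by simp)
    have h3 := hd' (a := b) (by simp)
    simp only [Finset.mem_insert, Finset.mem_singleton, not_or] at h2 h3
    simp [hab, hcd, h2.1, h2.2, h3.1, h3.2]
  · rw [hmem _ hσ1 a (by simp [support_swap hab]), swap_apply_left]
  · rw [hmem _ hσ1 b (by simp [support_swap hab]), swap_apply_right]
  · rw [hmem _ hτ1 c (by simp [support_swap hcd]), swap_apply_left]
  · rw [hmem _ hτ1 d (by simp [support_swap hcd]), swap_apply_right]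

variable {G : Type*} [Group G] [Finite G] {f : G →* alternatingGroup (Fin n)} {z : G}

/-- Even permutations fixing `a, b, c, d` have lifts commuting with that of `(a c)(b d)`. -/
theorem commute_of_fix (H : IsDoubleCover f z) {a b c d : Fin n} {C X : G}
    (hC : (f C : Perm (Fin n)) = swap a c * swap b d) {x : Perm (Fin n)} (hX : (f X : Perm (Fin n)) = x)
    (ha : x a = a) (hb : x b = b) (hc : x c = c) (hd : x d = d) : C * X = X * C := by
  classical
  let p : Fin n → Prop := fun u => u ≠ a ∧ u ≠ b ∧ u ≠ c ∧ u ≠ d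
  let φ : Perm {u // p u} →* Perm (Fin n) := ofSubtype
  let S : Subgroup (Perm (Fin n)) :=
    (Subgroup.centralizer {C}).map ((alternatingGroup (Fin n)).subtype.comp f)
  have h3 : ∀ τ : Perm {u // p u}, IsThreeCycle τ → φ τ ∈ S := by
    intro τ hτ
    have ht : IsThreeCycle (φ τ) := by
      rw [IsThreeCycle, cycleType_ofSubtype]
      exact hτ
    obtain ⟨T, hT, hT3⟩ := exists_lift_cube H (t := ⟨φ τ, ht.mem_alternatingGroup⟩)
      (Subtype.ext (by
        show φ τ ^ 3 = 1
        rw [← ht.orderOf, pow_orderOf_eq_one]))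
    refine ⟨T, ?_, by simp [hT]⟩
    rw [SetLike.mem_coe, Subgroup.mem_centralizer_singleton_iff]
    have hcomm : f (C * T * C⁻¹) = f T := Subtype.ext (by
      rw [map_mul, map_mul, map_inv, hT]
      show (f C : Perm (Fin n)) * φ τ * (f C : Perm (Fin n))⁻¹ = φ τ
      rw [mul_inv_eq_iff_eq_mul, hC]
      ext u
      simp only [Perm.mul_apply]
      by_cases hu : p u
      · have h1 : p (φ τ u) := by
          rw [show φ τ u = τ ⟨u, hu⟩ from ofSubtype_apply_of_mem τ hu]
          exact (τ ⟨u, hu⟩).2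
        obtain ⟨u1, u2, u3, u4⟩ := hu
        obtain ⟨v1, v2, v3, v4⟩ := h1
        rw [swap_apply_of_ne_of_ne v2 v4, swap_apply_of_ne_of_ne v1 v3, swap_apply_of_ne_of_ne u2 u4,
          swap_apply_of_ne_of_ne u1 u3]
      · have hsw : ¬ p (swap a c (swap b d u)) := by
          intro hh
          refine hu ?_
          by_cases e1 : u = a ∨ u = b ∨ u = c ∨ u = d
          · exfalso
            obtain ⟨v1, v2, v3, v4⟩ := hh
            revert v1 v2 v3 v4
            rcases e1 with rfl | rfl | rfl | rfl <;> simp only [swap_apply_def] <;> split_ifs <;> simp_all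
          · push Not at e1
            exact e1
        rw [show φ τ u = u from ofSubtype_apply_of_not_mem τ hu,
          show φ τ (swap a c (swap b d u)) = swap a c (swap b d u) from ofSubtype_apply_of_not_mem τ hsw])
    rcases eq_or_mul H hcomm with e | e
    · rw [mul_inv_eq_iff_eq_mul] at e
      exact e.symm
    · exfalso
      have h5 : (C * T * C⁻¹) ^ 3 = 1 := by rw [conj_pow, hT3, mul_one, mul_inv_cancel]
      rw [e, (show Commute T z from H.central T).mul_pow, hT3, one_mul, pow_succ, sq, H.sq, one_mul] at h5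
      exact H.ne h5
  have hmap : (alternatingGroup {u // p u}).map φ ≤ S := by
    rw [← closure_three_cycles_eq_alternating, MonoidHom.map_closure, Subgroup.closure_le]
    rintro _ ⟨τ, hτ, rfl⟩
    exact h3 τ hτ
  have hiff : ∀ u, p (x u) ↔ p u := fun u => by
    have key : ∀ w, x w = w → (x u = w ↔ u = w) := fun w hw =>
      ⟨fun e => x.injective (e.trans hw.symm), fun e => by rw [e, hw]⟩
    simp only [p, ne_eq, key a ha, key b hb, key c hc, key d hd]
  have hfull : ∀ u, x u ≠ u → p u := fun u hu => ⟨fun e => hu (e ▸ ha), fun e => hu (e ▸ hb),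
    fun e => hu (e ▸ hc), fun e => hu (e ▸ hd)⟩
  have hxs : φ (x.subtypePerm hiff) = x := ofSubtype_subtypePerm hiff hfull
  have hsign : x.subtypePerm hiff ∈ alternatingGroup {u // p u} := by
    rw [mem_alternatingGroup, ← sign_ofSubtype, show ofSubtype (x.subtypePerm hiff) = x from hxs, ← hX]
    exact mem_alternatingGroup.1 (f X).2
  obtain ⟨T, hT, hTx⟩ := hmap ⟨_, hsign, hxs⟩
  rw [SetLike.mem_coe, Subgroup.mem_centralizer_singleton_iff] at hT
  have e : f X = f T := Subtype.ext (by rw [hX]; exact hTx.symm)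
  rcases eq_or_mul H e with rfl | rfl
  · exact hT.symm
  · rw [← mul_assoc, ← hT, mul_assoc, H.central C, ← mul_assoc]

theorem exists_commutator (H : IsDoubleCover f z) (hn : 5 ≤ n) {W : G}
    (hg : HasPair (f W : Perm (Fin n))) : ∃ A B : G, A * B * A⁻¹ * B⁻¹ = W := by
  classical
  obtain ⟨x, y, hxy, htype, hsx, hcount⟩ := hg
  obtain ⟨a, b, c, d, hnd, hxa, hxb, hxc, hxd⟩ := exists_two_swaps hcount
  have hab : a ≠ b := by intro e; subst e; simp at hnd
  have hcd : c ≠ d := by intro e; subst e; simp at hnd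
  have hac : a ≠ c := by intro e; subst e; simp at hnd
  have hbd : b ≠ d := by intro e; subst e; simp at hnd
  have had : a ≠ d := by intro e; subst e; simp at hnd
  have hbc : b ≠ c := by intro e; subst e; simp at hnd
  -- an even permutation conjugating `x⁻¹` to `y`
  obtain ⟨π, hπ⟩ := isConj_iff.1 (isConj_iff_cycleType_eq.2 (show (x⁻¹).cycleType = y.cycleType by
    rw [cycleType_inv, htype]))
  obtain ⟨ρ, hρ⟩ : ∃ ρ : alternatingGroup (Fin n), (ρ : Perm (Fin n)) * x⁻¹ * (ρ : Perm (Fin n))⁻¹ = y := by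
    rcases Int.units_eq_one_or (sign π) with hs | hs
    · exact ⟨⟨π, mem_alternatingGroup.2 hs⟩, hπ⟩
    · refine ⟨⟨π * swap a b, mem_alternatingGroup.2 (by rw [map_mul, hs, sign_swap hab]; rfl)⟩, ?_⟩
      have hsw : swap a b * x⁻¹ * swap a b = x⁻¹ := by
        have h1 : x⁻¹ * swap a b * (x⁻¹)⁻¹ = swap (x⁻¹ a) (x⁻¹ b) := (swap_apply_apply x⁻¹ a b).symm
        rw [show x⁻¹ a = b from by rw [inv_eq_iff_eq, hxb], show x⁻¹ b = a from by rw [inv_eq_iff_eq, hxa],
          swap_comm b a, mul_inv_eq_iff_eq_mul] at h1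
        rw [← h1, mul_assoc, swap_mul_self, mul_one]
      show π * swap a b * x⁻¹ * (π * swap a b)⁻¹ = y
      rw [mul_inv_rev, swap_inv, ← hπ]
      calc π * swap a b * x⁻¹ * (swap a b * π⁻¹) = π * (swap a b * x⁻¹ * swap a b) * π⁻¹ := by group
        _ = _ := by rw [hsw]
  obtain ⟨A, hA⟩ := H.surj ⟨x, mem_alternatingGroup.2 hsx⟩
  obtain ⟨B, hB⟩ := H.surj ρ
  have hfW : f (A * B * A⁻¹ * B⁻¹) = f W := Subtype.ext (by
    simp only [map_mul, map_inv, Subgroup.coe_mul, Subgroup.coe_inv, hA, hB]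
    rw [← hxy, ← hρ]
    group)
  rcases eq_or_mul H hfW with h | h
  · exact ⟨A, B, h⟩
  -- flip the lift
  obtain ⟨C, hC⟩ := H.surj ⟨swap a c * swap b d, mem_alternatingGroup.2 (by
    rw [map_mul, sign_swap hac, sign_swap hbd]; rfl)⟩
  obtain ⟨U, hU⟩ := H.surj ⟨swap a b * swap c d, mem_alternatingGroup.2 (by
    rw [map_mul, sign_swap hab, sign_swap hcd]; rfl)⟩
  have hUC : U * C = C * U * z := anticomm H hn hnd (by rw [hU]) (by rw [hC])
  have hX : ∀ u v, x u = v → (f (U⁻¹ * A) : Perm (Fin n)) u = (swap a b * swap c d)⁻¹ v := fun u v huv => by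
    rw [map_mul, map_inv, hU, hA]
    show (swap a b * swap c d)⁻¹ (x u) = _
    rw [huv]
  have hCX : C * (U⁻¹ * A) = (U⁻¹ * A) * C := by
    refine commute_of_fix H (a := a) (b := b) (c := c) (d := d) (by rw [hC]) rfl ?_ ?_ ?_ ?_
    · rw [hX a b hxa, inv_eq_iff_eq, Perm.mul_apply, swap_apply_of_ne_of_ne hac had, swap_apply_left]
    · rw [hX b a hxb, inv_eq_iff_eq, Perm.mul_apply, swap_apply_of_ne_of_ne hbc hbd, swap_apply_right]
    · rw [hX c d hxc, inv_eq_iff_eq, Perm.mul_apply, swap_apply_left, swap_apply_of_ne_of_ne had.symm hbd.symm]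
    · rw [hX d c hxd, inv_eq_iff_eq, Perm.mul_apply, swap_apply_right, swap_apply_of_ne_of_ne hac.symm hbc.symm]
  have hAC : C * A⁻¹ * C⁻¹ = A⁻¹ * z := by
    have hA' : A * C = C * A * z := by
      calc A * C = U * ((U⁻¹ * A) * C) := by group
        _ = (U * C) * (U⁻¹ * A) := by rw [← hCX]; group
        _ = C * U * (z * (U⁻¹ * A)) := by rw [hUC, mul_assoc]
        _ = C * A * z := by rw [← H.central (U⁻¹ * A)]; group
    calc C * A⁻¹ * C⁻¹ = A⁻¹ * (A * C) * A⁻¹ * C⁻¹ := by group
      _ = A⁻¹ * C * A * (z * A⁻¹) * C⁻¹ := by rw [hA']; group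
      _ = A⁻¹ * C * (z * C⁻¹) := by rw [← H.central A⁻¹]; group
      _ = A⁻¹ * z := by rw [← H.central C⁻¹]; group
  refine ⟨A, B * C, ?_⟩
  calc A * (B * C) * A⁻¹ * (B * C)⁻¹ = A * B * (C * A⁻¹ * C⁻¹) * B⁻¹ := by group
    _ = A * B * A⁻¹ * (z * B⁻¹) := by rw [hAC]; group
    _ = (A * B * A⁻¹ * B⁻¹) * z := by rw [← H.central B⁻¹]; group
    _ = W := by rw [h, mul_assoc, H.sq, mul_one]

end CfsgLib.AltDoubleCover
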