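import Cfsg.Agent.AltDoubleCover.Atoms
import Cfsg.Agent.AltDoubleCover.Flip

/-!
# Every even permutation is a product of two conjugate even permutations containing two transpositions
-/

set_option autoImplicit false

namespace CfsgLib.AltDoubleCover

open Equiv Equiv.Perm

/-- Sum of the halves of the parts. -/
def halfSum (M : Multiset ℕ) : ℕ := (M.map (· / 2)).sum

/-- Number of even parts. -/
def evenCount (M : Multiset ℕ) : ℕ := M.countP (Even ·)

@[simp] theorem halfSum_cons (k : ℕ) (M : Multiset ℕ) : halfSum (k ::ₘ M) = k / 2 + halfSum M := by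
  simp [halfSum]

@[simp] theorem evenCount_cons (k : ℕ) (M : Multiset ℕ) :
    evenCount (k ::ₘ M) = evenCount M + if Even k then 1 else 0 := by
  simp [evenCount, Multiset.countP_cons]

@[simp] theorem halfSum_zero : halfSum 0 = 0 := rfl

@[simp] theorem evenCount_zero : evenCount 0 = 0 := rfl

theorem evenCount_le (M : Multiset ℕ) (hM : ∀ k ∈ M, 2 ≤ k) :
    evenCount M ≤ Multiset.card M ∧ Multiset.card M ≤ halfSum M := by
  induction M using Multiset.induction_on with
  | empty => simp
  | cons k M ih =>
    obtain ⟨h1, h2⟩ := ih fun x hx => hM x (Multiset.mem_cons_of_mem hx)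
    have := hM k (Multiset.mem_cons_self k M)
    simp only [evenCount_cons, halfSum_cons, Multiset.card_cons]
    split_ifs <;> omega

theorem sum_add_card_mod (M : Multiset ℕ) : (M.sum + Multiset.card M) % 2 = evenCount M % 2 := by
  induction M using Multiset.induction_on with
  | empty => simp
  | cons k M ih =>
    simp only [evenCount_cons, Multiset.sum_cons, Multiset.card_cons]
    split_ifs with h
    · have := Nat.even_iff.1 h
      omega
    · have := Nat.not_even_iff.1 h
      omega

section

variable {α : Type*} [Fintype α] [DecidableEq α]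

theorem card_le_of_mem {g : Perm α} {k : ℕ} (hk : k ∈ g.cycleType) : k ≤ Fintype.card α :=
  (Multiset.le_sum_of_mem hk).trans (by rw [sum_cycleType]; exact Finset.card_le_univ _)

/-- A single cycle. -/
theorem split_cycle {g : Perm α} {k : ℕ} (hg : g.cycleType = {k}) :
    if Even k then Split g (Multiset.replicate (k / 2 - 1) 2) (Multiset.replicate (k / 2) 2) ∧
        Split g (Multiset.replicate (k / 2) 2) (Multiset.replicate (k / 2 - 1) 2)
      else Split g (Multiset.replicate (k / 2) 2) (Multiset.replicate (k / 2) 2) := by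
  have hk : k ∈ g.cycleType := by simp [hg]
  obtain ⟨g₀, h₀, h⟩ := split_cycle_model k (two_le_of_mem_cycleType hk)
  obtain ⟨e⟩ := Function.Embedding.nonempty_of_card_le (α := Fin k) (β := α)
    (by simpa using card_le_of_mem hk)
  split_ifs with hp
  · rw [if_pos hp] at h
    exact ⟨h.1.of_cycleType e (hg.trans h₀.symm), h.2.of_cycleType e (hg.trans h₀.symm)⟩
  · rw [if_neg hp] at h
    exact h.of_cycleType e (hg.trans h₀.symm)

theorem split_normal (g : Perm α) : ∀ i j : ℕ, i + j = evenCount g.cycleType →
    Split g (Multiset.replicate (halfSum g.cycleType - i) 2) (Multiset.replicate (halfSum g.cycleType - j) 2) := by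
  induction g using cycle_induction_on with
  | base_one =>
    intro i j hij
    simpa using split_one
  | base_cycles σ hσ =>
    intro i j hij
    have h := split_cycle hσ.cycleType
    rw [hσ.cycleType, ← Multiset.cons_zero, evenCount_cons, evenCount_zero] at hij
    rw [hσ.cycleType, ← Multiset.cons_zero, halfSum_cons, halfSum_zero, add_zero]
    split_ifs at hij h with hp
    · rcases (show i = 1 ∧ j = 0 ∨ i = 0 ∧ j = 1 by omega) with ⟨rfl, rfl⟩ | ⟨rfl, rfl⟩
      · exact h.1
      · exact h.2
    · obtain ⟨rfl, rfl⟩ : i = 0 ∧ j = 0 := by omega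
      exact h
  | induction_disjoint σ τ hd hσ ihσ ihτ =>
    intro i j hij
    rw [hd.cycleType_mul] at hij ⊢
    have e1 : evenCount (σ.cycleType + τ.cycleType) = evenCount σ.cycleType + evenCount τ.cycleType :=
      Multiset.countP_add _ _ _
    have e2 : halfSum (σ.cycleType + τ.cycleType) = halfSum σ.cycleType + halfSum τ.cycleType := by
      simp [halfSum]
    rw [e1] at hij
    have b1 := evenCount_le σ.cycleType fun k hk => two_le_of_mem_cycleType hk
    have b2 := evenCount_le τ.cycleType fun k hk => two_le_of_mem_cycleType hk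
    obtain ⟨i1, j1, i2, j2, q1, q2, q3, q4⟩ : ∃ i1 j1 i2 j2, i1 + j1 = evenCount σ.cycleType ∧
        i2 + j2 = evenCount τ.cycleType ∧ i1 + i2 = i ∧ j1 + j2 = j :=
      ⟨min i (evenCount σ.cycleType), evenCount σ.cycleType - min i (evenCount σ.cycleType),
        i - min i (evenCount σ.cycleType),
        evenCount τ.cycleType - (i - min i (evenCount σ.cycleType)), by omega, by omega, by omega, by omega⟩
    have h := (ihσ i1 j1 q1).mul hd (ihτ i2 j2 q2)
    rw [← Multiset.replicate_add, ← Multiset.replicate_add] at h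
    rw [e2]
    convert h using 2 <;> omega

theorem exists_cycle_factor {g : Perm α} {k : ℕ} (hk : k ∈ g.cycleType) :
    ∃ σ r : Perm α, Disjoint σ r ∧ g = σ * r ∧ σ.cycleType = {k} ∧ r.cycleType = g.cycleType.erase k := by
  rw [cycleType_def, Multiset.mem_map] at hk
  obtain ⟨σ, hσ, rfl⟩ := hk
  have hσ' : σ ∈ g.cycleFactorsFinset := hσ
  have hd := (disjoint_mul_inv_of_mem_cycleFactorsFinset hσ').symm
  have ht : σ.cycleType = {σ.support.card} := (mem_cycleFactorsFinset_iff.1 hσ').1.cycleType
  refine ⟨σ, g * σ⁻¹, hd, by rw [hd.commute.eq, inv_mul_cancel_right], ht, ?_⟩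
  rw [cycleType_mul_inv_mem_cycleFactorsFinset_eq_sub hσ', ht]
  simp [Multiset.sub_singleton]

end

variable {n : ℕ}

theorem hasPair_of_types {g x y : Perm (Fin n)} {S : Multiset ℕ} (hxy : x * y = g) (hx : x.cycleType = S)
    (hy : y.cycleType = S) (hS : (S.sum + Multiset.card S) % 2 = 0) (h2 : 2 ≤ S.count 2) : HasPair g :=
  ⟨x, y, hxy, hx.trans hy.symm, by rw [sign_of_cycleType, hx, (Nat.even_iff.2 hS).neg_one_pow], by rwa [hx]⟩

theorem Split.hasPair {g : Perm (Fin n)} {S : Multiset ℕ} (h : Split g S S)
    (hS : (S.sum + Multiset.card S) % 2 = 0) (h2 : 2 ≤ S.count 2) : HasPair g := by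
  obtain ⟨x, y, hxy, hx, hy, -, -⟩ := h
  exact hasPair_of_types hxy hx hy hS h2

theorem Split.hasPair_replicate {g : Perm (Fin n)} {m : ℕ}
    (h : Split g (Multiset.replicate m 2) (Multiset.replicate m 2)) (hm : Even m) (h2 : 2 ≤ m) : HasPair g :=
  h.hasPair (by
    obtain ⟨c, rfl⟩ := hm
    simp [Multiset.sum_replicate]
    omega) (by simpa using h2)

theorem base_list : ∀ S ∈ (Finset.Icc 2 7).powerset, evenCount S.val % 2 = 0 →
    (halfSum S.val - evenCount S.val / 2) % 2 = 1 → 4 ≤ S.val.sum →
    (halfSum S.val - evenCount S.val / 2 ≤ 3 ∨ ∀ k ∈ S, k ≤ 4) →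
    S = {7} ∨ S = {3, 5} ∨ S = {2, 6} ∨ S = {2, 3, 4} := by
  decide +kernel

theorem hasPair_of_even (hn : 5 ≤ n) {g : Perm (Fin n)} (hg : sign g = 1) : HasPair g := by
  classical
  set M := g.cycleType with hMdef
  set E := evenCount M with hEdef
  have h2le : ∀ k ∈ M, 2 ≤ k := fun k hk => two_le_of_mem_cycleType hk
  obtain ⟨hE1, hE2⟩ := evenCount_le M h2le
  have hEeven : E % 2 = 0 := by
    rw [sign_of_cycleType] at hg
    have := neg_one_pow_eq_one_iff_even (R := ℤˣ) (by decide) |>.1 hg
    rw [hEdef, ← sum_add_card_mod]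
    exact Nat.even_iff.1 this
  obtain ⟨N, hN⟩ : ∃ N, halfSum M - E / 2 = N := ⟨_, rfl⟩
  have hsum : M.sum = g.support.card := sum_cycleType g
  have hgn : g.support.card ≤ n := (Finset.card_le_univ _).trans_eq (Fintype.card_fin n)
  have hnormal : Split g (Multiset.replicate N 2) (Multiset.replicate N 2) := by
    have h := split_normal g (E / 2) (E / 2) (show E / 2 + E / 2 = E by omega)
    rwa [hN] at h
  rcases Nat.even_or_odd N with hNe | hNo
  · rcases Nat.eq_zero_or_pos N with hN0 | hNpos
    · -- the identity
      have hM0 : M = 0 := Multiset.card_eq_zero.1 (by omega)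
      have hg1 : g = 1 := cycleType_eq_zero.1 hM0
      subst hg1
      let a : Fin n := ⟨0, by omega⟩
      let b : Fin n := ⟨1, by omega⟩
      let c : Fin n := ⟨2, by omega⟩
      let d : Fin n := ⟨3, by omega⟩
      have ht := cycleType_formPerm₂ (l₁ := [a, b]) (l₂ := [c, d]) (by simp [a, b, c, d]) (by simp) (by simp)
      exact hasPair_of_types (mul_inv_cancel _) ht (by rw [cycleType_inv, ht]) (by simp) (by simp)
    · exact hnormal.hasPair_replicate hNe (by obtain ⟨c, rfl⟩ := hNe; omega)
  by_cases hdup : M.Nodup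
  swap
  · -- two cycles of the same length
    obtain ⟨k, hk⟩ : ∃ k, 2 ≤ M.count k := by
      by_contra h
      push Not at h
      exact hdup (Multiset.nodup_iff_count_le_one.2 fun k => Nat.le_of_lt_succ (h k))
    have hk2 : 2 ≤ k := h2le k (Multiset.count_pos.1 (by omega))
    have hkM : k ∈ g.cycleType := Multiset.count_pos.1 (show 0 < M.count k by omega)
    obtain ⟨σ, r, hd, hgr, hσ, hr⟩ := exists_cycle_factor hkM
    have hkr : k ∈ r.cycleType := by
      rw [hr, ← Multiset.count_pos, Multiset.count_erase_self]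
      change 0 < M.count k - 1
      omega
    obtain ⟨τ, r', hd', hrr, hτ, hr'⟩ := exists_cycle_factor hkr
    have hM2 : M = k ::ₘ k ::ₘ r'.cycleType := by
      rw [hr', Multiset.cons_erase hkr, hr, Multiset.cons_erase hkM]
    have hsub : τ.support ⊆ r.support ∧ r'.support ⊆ r.support := by
      rw [hrr, hd'.support_mul]
      exact ⟨Finset.subset_union_left, Finset.subset_union_right⟩
    have hστ : Disjoint σ τ :=
      disjoint_iff_disjoint_support.2 ((disjoint_iff_disjoint_support.1 hd).mono_right hsub.1)
    have hσr' : Disjoint σ r' :=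
      disjoint_iff_disjoint_support.2 ((disjoint_iff_disjoint_support.1 hd).mono_right hsub.2)
    obtain ⟨g₀, h₀, hs⟩ := split_pair_model k hk2
    have hcard : Fintype.card (Fin k ⊕ Fin k) ≤ Fintype.card (Fin n) := by
      have h : k + k ≤ M.sum := by
        rw [hM2]
        simp
      simp
      omega
    obtain ⟨e⟩ := Function.Embedding.nonempty_of_card_le hcard
    have hpair : Split (σ * τ) (Multiset.replicate k 2) (Multiset.replicate k 2) :=
      hs.of_cycleType e (by rw [hστ.cycleType_mul, hσ, hτ, h₀]; rfl)
    have hE' : E = evenCount r'.cycleType + (if Even k then 1 else 0) + (if Even k then 1 else 0) := by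
      rw [hEdef, hM2, evenCount_cons, evenCount_cons]
    have hh' : halfSum M = k / 2 + (k / 2 + halfSum r'.cycleType) := by
      rw [hM2, halfSum_cons, halfSum_cons]
    have b := evenCount_le r'.cycleType fun x hx => two_le_of_mem_cycleType hx
    have hrest := split_normal r' (evenCount r'.cycleType / 2) (evenCount r'.cycleType / 2)
      (by split_ifs at hE' <;> omega)
    have htot := hpair.mul (hσr'.mul_left hd') hrest
    rw [show σ * τ * r' = g by rw [hgr, hrr, mul_assoc], ← Multiset.replicate_add] at htot
    refine htot.hasPair_replicate (Nat.even_iff.2 ?_) (by omega)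
    have := Nat.odd_iff.1 hNo
    split_ifs at hE' with hp
    · have := Nat.even_iff.1 hp
      omega
    · have := Nat.not_even_iff.1 hp
      omega
  by_cases hfix : g.support.card + 2 ≤ n
  · -- two common fixed points
    obtain ⟨u, hu, v, hv, huv⟩ := Finset.one_lt_card.1 (show 1 < g.supportᶜ.card by
      rw [Finset.card_compl, Fintype.card_fin]
      omega)
    rw [Finset.mem_compl] at hu hv
    obtain ⟨x, y, hxy, hx, hy, hxs, hys⟩ := hnormal
    have hdj : ∀ w : Perm (Fin n), w.support ⊆ g.support → Disjoint w (swap u v) := fun w hw =>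
      disjoint_iff_disjoint_support.2 (Finset.disjoint_left.2 fun a ha ha' => by
        rw [support_swap huv, Finset.mem_insert, Finset.mem_singleton] at ha'
        rcases ha' with rfl | rfl
        · exact hu (hw ha)
        · exact hv (hw ha))
    have ht : ∀ w : Perm (Fin n), w.cycleType = Multiset.replicate N 2 → w.support ⊆ g.support →
        (w * swap u v).cycleType = Multiset.replicate (N + 1) 2 := fun w hw hws => by
      rw [(hdj w hws).cycleType_mul, hw, (isCycle_swap huv).cycleType, card_support_swap huv,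
        Multiset.replicate_add]
      rfl
    refine hasPair_of_types ?_ (ht x hx hxs) (ht y hy hys) ?_ ?_
    · rw [mul_assoc, (hdj y hys).commute.eq, swap_mul_self_mul, hxy]
    · obtain ⟨c, rfl⟩ := hNo
      simp [Multiset.sum_replicate]
      omega
    · obtain ⟨c, rfl⟩ := hNo
      simp
  by_cases hbig : 5 ≤ N ∧ ∃ k ∈ M, 5 ≤ k
  · obtain ⟨hN5, k, hkM, hk5⟩ := hbig
    obtain ⟨σ, r, hd, hgr, hσ, hr⟩ := exists_cycle_factor hkM
    have hM1 : M = k ::ₘ r.cycleType := by rw [hr, Multiset.cons_erase hkM]
    have hE' : E = evenCount r.cycleType + (if Even k then 1 else 0) := by rw [hEdef, hM1, evenCount_cons]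
    have hh' : halfSum M = k / 2 + halfSum r.cycleType := by rw [hM1, halfSum_cons]
    have b := evenCount_le r.cycleType fun x hx => two_le_of_mem_cycleType hx
    have hodd := Nat.odd_iff.1 hNo
    obtain ⟨g₀, h₀, hs⟩ := split_flip_model k hk5
    obtain ⟨e⟩ := Function.Embedding.nonempty_of_card_le (α := Fin k) (β := Fin n)
      (by simpa using card_le_of_mem hkM)
    obtain ⟨p, hp⟩ : ∃ p, Split g (4 ::ₘ Multiset.replicate p 2) (4 ::ₘ Multiset.replicate p 2) ∧ p + 2 = N := by
      refine ⟨N - 2, ?_, by omega⟩
      by_cases hpar : Even k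
      · rw [if_pos hpar] at hs hE'
        have := Nat.even_iff.1 hpar
        have htot := (hs.of_cycleType e (hσ.trans h₀.symm)).mul hd
          (split_normal r (E / 2 - 1) (E / 2) (by omega))
        rw [← hgr, Multiset.cons_add, Multiset.cons_add, ← Multiset.replicate_add, ← Multiset.replicate_add] at htot
        convert htot using 3 <;> omega
      · rw [if_neg hpar] at hs hE'
        have := Nat.not_even_iff.1 hpar
        have htot := (hs.of_cycleType e (hσ.trans h₀.symm)).mul hd
          (split_normal r (E / 2) (E / 2) (by omega))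
        rw [← hgr, Multiset.cons_add, ← Multiset.replicate_add] at htot
        convert htot using 3 <;> omega
    obtain ⟨hp, hpN⟩ := hp
    refine hp.hasPair ?_ ?_
    · simp [Multiset.sum_replicate]
      omega
    · simp [Multiset.count_cons]
      omega
  -- the four exceptional cycle types
  have hsmall : ∀ k ∈ M, k ≤ 7 := by
    intro k hk
    by_contra hk7
    have hN5 : ¬ 5 ≤ N := fun h => hbig ⟨h, k, hk, by omega⟩
    have hh' : halfSum M = k / 2 + halfSum (M.erase k) := by
      conv_lhs => rw [← Multiset.cons_erase hk]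
      rw [halfSum_cons]
    have hE' : E = evenCount (M.erase k) + (if Even k then 1 else 0) := by
      rw [hEdef]
      conv_lhs => rw [← Multiset.cons_erase hk]
      rw [evenCount_cons]
    have b := evenCount_le (M.erase k) fun x hx => h2le x (Multiset.mem_of_mem_erase hx)
    have := Nat.odd_iff.1 hNo
    split_ifs at hE' <;> omega
  have hmem : (⟨M, hdup⟩ : Finset ℕ) ∈ (Finset.Icc 2 7).powerset :=
    Finset.mem_powerset.2 fun k hk => Finset.mem_Icc.2 ⟨h2le k hk, hsmall k hk⟩
  have hodd := Nat.odd_iff.1 hNo
  have hlist := base_list _ hmem hEeven (by show (halfSum M - E / 2) % 2 = 1; omega)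
    (by show 4 ≤ M.sum; omega) (by
      show halfSum M - E / 2 ≤ 3 ∨ ∀ k ∈ M, k ≤ 4
      rcases Nat.lt_or_ge N 5 with h | h
      · left; omega
      · right
        intro k hk
        by_contra h4
        exact hbig ⟨h, k, hk, by omega⟩)
  have hfin : ∀ {m : ℕ}, m = M.sum → (∃ g₀ : Perm (Fin m), g₀.cycleType = M ∧ Split g₀ {3, 2, 2} {3, 2, 2}) →
      HasPair g := fun {m} hm ⟨g₀, h₀, hs⟩ => by
    obtain ⟨e⟩ := Function.Embedding.nonempty_of_card_le (α := Fin m) (β := Fin n) (by simp; omega)
    exact (hs.of_cycleType e h₀.symm).hasPair (by rfl) (by rfl)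
  rcases hlist with h | h | h | h <;> replace h := congrArg Finset.val h
  · have hM : M = {7} := h
    exact hfin (m := 7) (by simp [hM]) (by rw [hM]; exact split_base₇)
  · have hM : M = {3, 5} := h
    exact hfin (m := 8) (by simp [hM]) (by rw [hM]; exact split_base₃₅)
  · have hM : M = {2, 6} := h
    exact hfin (m := 8) (by simp [hM]) (by rw [hM]; exact split_base₂₆)
  · have hM : M = {2, 3, 4} := h
    exact hfin (m := 9) (by simp [hM]) (by rw [hM]; exact split_base₂₃₄)

end CfsgLib.AltDoubleCover
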