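import Mathlib

/-!
# Lifts of double transpositions in perfect double covers of alternating groups
-/

set_option autoImplicit false

namespace CfsgLib.AltDoubleCover

open Equiv

section Carmichael

variable {G : Type*} [Group G]

/-- The subgroup generated by the first `m` generators. -/
def gen (X : ℕ → G) (m : ℕ) : Subgroup G := Subgroup.closure (X '' Set.Iio m)

theorem gen_mem {X : ℕ → G} {i m : ℕ} (h : i < m) : X i ∈ gen X m :=
  Subgroup.subset_closure ⟨i, h, rfl⟩

theorem gen_mono {X : ℕ → G} (m : ℕ) : gen X m ≤ gen X (m + 1) :=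
  Subgroup.closure_mono (Set.image_mono (Set.Iio_subset_Iio (Nat.le_succ m)))

/-- One step of the coset enumeration in the presentation `x_i³ = (x_i x_j)² = 1`. -/
theorem card_gen_succ_le [Finite G] {X : ℕ → G} {m : ℕ} (h3 : ∀ i ≤ m, X i ^ 3 = 1)
    (h2 : ∀ i ≤ m, ∀ j ≤ m, i ≠ j → X i * X j = (X j)⁻¹ * (X i)⁻¹) :
    Nat.card (gen X (m + 1)) ≤ Nat.card (gen X m) * (m + 3) := by
  classical
  let rep : Option (Option (Option (Fin m))) → G := fun o => match o with
    | none => 1
    | some none => X m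
    | some (some none) => (X m)⁻¹
    | some (some (some i)) => (X m)⁻¹ * X i
  let U : Set G := {g | ∃ o, ∃ l ∈ gen X m, g = l * rep o}
  have hm3 : X m * X m = (X m)⁻¹ := by
    rw [eq_inv_iff_mul_eq_one, ← sq, ← pow_succ]
    exact h3 m le_rfl
  have hstep : ∀ j, j ≤ m → ∀ g ∈ U, g * X j ∈ U := by
    intro j hj g hg
    obtain ⟨o, l, hl, rfl⟩ := hg
    rcases Nat.lt_or_eq_of_le hj with hj' | rfl
    · have e1 : X m * X j = (X j)⁻¹ * (X m)⁻¹ := h2 m le_rfl j hj (by omega)
      have e2 : X j * X m = (X m)⁻¹ * (X j)⁻¹ := h2 j hj m le_rfl (by omega)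
      match o with
      | none => exact ⟨none, l * X j, mul_mem hl (gen_mem hj'), by simp [rep]⟩
      | some none =>
        refine ⟨some (some none), l * (X j)⁻¹, mul_mem hl (inv_mem (gen_mem hj')), ?_⟩
        simp only [rep]
        rw [mul_assoc, e1, mul_assoc]
      | some (some none) => exact ⟨some (some (some ⟨j, hj'⟩)), l, hl, by simp [rep, mul_assoc]⟩
      | some (some (some ⟨i, hi⟩)) =>
        by_cases hij : i = j
        · subst hij
          refine ⟨some none, l * X i, mul_mem hl (gen_mem hi), ?_⟩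
          simp only [rep]
          have h9 : X i * X i = (X i)⁻¹ := by
            rw [eq_inv_iff_mul_eq_one, ← sq, ← pow_succ]
            exact h3 i hi.le
          rw [mul_assoc, mul_assoc, h9, ← e2, mul_assoc]
        · refine ⟨some (some (some ⟨i, hi⟩)), l * (X j * (X i)⁻¹),
            mul_mem hl (mul_mem (gen_mem hj') (inv_mem (gen_mem hi))), ?_⟩
          simp only [rep]
          have f1 : X i * X j = (X j)⁻¹ * (X i)⁻¹ := h2 i hi.le j hj hij
          have f2 : X i * X m = (X m)⁻¹ * (X i)⁻¹ := h2 i hi.le m le_rfl (by omega)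
          have h9 : (X i)⁻¹ * (X i)⁻¹ = X i := by
            rw [← mul_inv_rev, inv_eq_iff_mul_eq_one, ← sq, ← pow_succ]
            exact h3 i hi.le
          have key : (X m)⁻¹ * X i * X j * (X i)⁻¹ * X m = X j * (X i)⁻¹ := by
            calc (X m)⁻¹ * X i * X j * (X i)⁻¹ * X m
                = (X m)⁻¹ * (X i * X j) * (X i)⁻¹ * X m := by group
              _ = (X m)⁻¹ * (X j)⁻¹ * ((X i)⁻¹ * (X i)⁻¹) * X m := by rw [f1]; group
              _ = ((X m)⁻¹ * (X j)⁻¹) * (X i * X m) := by rw [h9]; group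
              _ = (X j * X m) * ((X m)⁻¹ * (X i)⁻¹) := by rw [f2, ← e2]
              _ = X j * (X i)⁻¹ := by group
          rw [← key]
          group
    · match o with
      | none => exact ⟨some none, l, hl, by simp [rep]⟩
      | some none => exact ⟨some (some none), l, hl, by simp only [rep]; rw [mul_assoc, hm3]⟩
      | some (some none) => exact ⟨none, l, hl, by simp [rep]⟩
      | some (some (some ⟨i, hi⟩)) =>
        refine ⟨some (some (some ⟨i, hi⟩)), l * (X i)⁻¹, mul_mem hl (inv_mem (gen_mem hi)), ?_⟩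
        simp only [rep]
        have f2 : X i * X j = (X j)⁻¹ * (X i)⁻¹ := h2 i hi.le j le_rfl (by omega)
        have f1 : X j * X i = (X i)⁻¹ * (X j)⁻¹ := h2 j le_rfl i hi.le (by omega)
        have h9 : X i * X i = (X i)⁻¹ := by
          rw [eq_inv_iff_mul_eq_one, ← sq, ← pow_succ]
          exact h3 i hi.le
        have hmi : (X j)⁻¹ * (X j)⁻¹ = X j := by rw [← mul_inv_rev, hm3, inv_inv]
        calc l * ((X j)⁻¹ * X i) * X j = l * ((X j)⁻¹ * (X i * X j)) := by group
          _ = l * (((X j)⁻¹ * (X j)⁻¹) * (X i)⁻¹) := by rw [f2]; group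
          _ = l * (X j * (X i * X i)) := by rw [hmi, h9]
          _ = l * ((X j * X i) * X i) := by group
          _ = l * (X i)⁻¹ * ((X j)⁻¹ * X i) := by rw [f1]; group
  have hall : ∀ g ∈ gen X (m + 1), g ∈ U := by
    intro g hg
    refine Subgroup.closure_induction_right (p := fun g _ => g ∈ U) ⟨none, 1, one_mem _, by simp [rep]⟩ ?_ ?_ hg
    · rintro x y _ ⟨j, hj, rfl⟩ hx
      exact hstep j (Nat.lt_succ_iff.1 hj) x hx
    · rintro x y _ ⟨j, hj, rfl⟩ hx
      have hjm : j ≤ m := Nat.lt_succ_iff.1 hj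
      have : (X j)⁻¹ = X j * X j := by
        rw [eq_comm, eq_inv_iff_mul_eq_one, ← sq, ← pow_succ]
        exact h3 j hjm
      rw [this, ← mul_assoc]
      exact hstep j hjm _ (hstep j hjm x hx)
  let φ : gen X m × Option (Option (Option (Fin m))) → G := fun p => (p.1 : G) * rep p.2
  have hsub : (gen X (m + 1) : Set G) ⊆ Set.range φ := fun g hg => by
    obtain ⟨o, l, hl, rfl⟩ := hall g hg
    exact ⟨(⟨l, hl⟩, o), rfl⟩
  calc Nat.card (gen X (m + 1)) = (gen X (m + 1) : Set G).ncard := Nat.card_coe_set_eq _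
    _ ≤ (Set.range φ).ncard := Set.ncard_le_ncard hsub
    _ ≤ Nat.card (gen X m × Option (Option (Option (Fin m)))) := by
      rw [← Nat.card_coe_set_eq]
      exact Finite.card_range_le φ
    _ = Nat.card (gen X m) * (m + 3) := by
      rw [Nat.card_prod]
      simp [Finite.card_option]

theorem card_gen_le [Finite G] {X : ℕ → G} : ∀ {m : ℕ}, (∀ i < m, X i ^ 3 = 1) →
    (∀ i < m, ∀ j < m, i ≠ j → X i * X j = (X j)⁻¹ * (X i)⁻¹) →
    2 * Nat.card (gen X m) ≤ (m + 2).factorial := by
  intro m
  induction m with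
  | zero =>
    intro _ _
    have : gen X 0 = ⊥ := by
      rw [gen, show Set.Iio (0 : ℕ) = ∅ from Set.eq_empty_iff_forall_notMem.2 fun x hx => Nat.not_lt_zero x hx]
      simp
    rw [this, Subgroup.card_bot]
    rfl
  | succ m ih =>
    intro h3 h2
    have h := card_gen_succ_le (X := X) (m := m) (fun i hi => h3 i (by omega))
      (fun i hi j hj hij => h2 i (by omega) j (by omega) hij)
    have := ih (fun i hi => h3 i (by omega)) (fun i hi j hj hij => h2 i (by omega) j (by omega) hij)
    calc 2 * Nat.card (gen X (m + 1)) ≤ 2 * (Nat.card (gen X m) * (m + 3)) := Nat.mul_le_mul_left 2 h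
      _ = (2 * Nat.card (gen X m)) * (m + 3) := by ring
      _ ≤ (m + 2).factorial * (m + 3) := Nat.mul_le_mul_right _ this
      _ = (m + 1 + 2).factorial := by
        rw [show m + 1 + 2 = (m + 2) + 1 by omega, Nat.factorial_succ (m + 2), Nat.mul_comm]

end Carmichael

end CfsgLib.AltDoubleCover
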